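import Groth.Agent.Ega41SymGr.Regular
import Groth.Agent.Ega41Adic.CompleteLift
import Groth.Agent.Calg6.PowerSeries
import Groth.Prelude.Def_EGA41

/-! Formally smooth local algebras with prescribed residue field and the imperfection module. -/

universe u

open TensorProduct KaehlerDifferential IsLocalRing

namespace Groth.Ega41Exist

open Groth.Ega41SymGr Groth.SGA7.PS

/-- Injectivity after tensoring is transported along an isomorphism. -/
theorem injective_lTensor_congr {R : Type*} [CommRing R] {L K M N : Type*} [AddCommGroup L] [Module R L]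
    [AddCommGroup K] [Module R K] [AddCommGroup M] [Module R M] [AddCommGroup N] [Module R N]
    (e : L ≃ₗ[R] K) (f : M →ₗ[R] N) :
    Function.Injective (f.lTensor L) ↔ Function.Injective (f.lTensor K) := by
  have h : (LinearEquiv.rTensor N e).toLinearMap ∘ₗ f.lTensor L = f.lTensor K ∘ₗ (LinearEquiv.rTensor M e).toLinearMap :=
    TensorProduct.ext' fun a b => rfl
  have h' : ∀ z, LinearEquiv.rTensor N e (f.lTensor L z) = f.lTensor K (LinearEquiv.rTensor M e z) :=
    fun z => LinearMap.congr_fun h z
  refine ⟨fun hi x y hxy => ?_, fun hi x y hxy => ?_⟩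
  · obtain ⟨x, rfl⟩ := (LinearEquiv.rTensor M e).surjective x
    obtain ⟨y, rfl⟩ := (LinearEquiv.rTensor M e).surjective y
    rw [← h', ← h'] at hxy
    rw [hi ((LinearEquiv.rTensor N e).injective hxy)]
  · exact (LinearEquiv.rTensor M e).injective (hi (by rw [← h', ← h', hxy]))

section Finite

variable {k K A : Type u} [Field k] [Field K] [Algebra k K] [CommRing A] [IsLocalRing A] [IsNoetherianRing A]
  [Algebra k A]

/-- A Noetherian formally smooth local algebra bounds the imperfection module. -/
theorem finite_imperfection (h : CAlgX.IsAdicFormallySmooth k A (maximalIdeal A)) (e : ResidueField A ≃ₐ[k] K) :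
    Module.Finite K (EGA41.imperfection ℤ k K) := by
  letI : Algebra A K := (e.toRingHom.comp (residue A)).toAlgebra
  haveI : IsScalarTower k A K := IsScalarTower.of_algebraMap_eq fun x => by
    show algebraMap k K x = e (residue A (algebraMap k A x))
    exact (e.commutes x).symm
  have hsurj : Function.Surjective (algebraMap A K) := e.surjective.comp residue_surjective
  let eR : ResidueField A ≃ₗ[A] K :=
    { e.toRingEquiv.toAddEquiv with
      map_smul' := fun a x => by
        show e (algebraMap A (ResidueField A) a * x) = algebraMap A K a * e x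
        rw [map_mul]; rfl }
  have hinj : Function.Injective ((mapBaseChange ℤ k A).lTensor K) :=
    (injective_lTensor_congr eR _).mp (isAdicFormallySmooth_field_iff.mp h).2
  let j : K ⊗[k] Ω[k⁄ℤ] →ₗ[K] K ⊗[A] Ω[A⁄ℤ] :=
    (mapBaseChange ℤ k A).baseChange K ∘ₗ (TensorProduct.AlgebraTensorModule.cancelBaseChange k A K K Ω[k⁄ℤ]).symm.toLinearMap
  have hj : Function.Injective j := by
    show Function.Injective (⇑((mapBaseChange ℤ k A).baseChange K) ∘ ⇑(TensorProduct.AlgebraTensorModule.cancelBaseChange k A K K Ω[k⁄ℤ]).symm)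
    refine Function.Injective.comp ?_ (LinearEquiv.injective _)
    rw [LinearMap.baseChange_eq_ltensor]
    exact hinj
  have hcomp : ∀ z, mapBaseChange ℤ A K (j z) = mapBaseChange ℤ k K z := fun z => by
    induction z with
    | zero => simp
    | add x y hx hy => rw [map_add, map_add, map_add, hx, hy]
    | tmul c ω =>
      induction (show ω ∈ Submodule.span k (Set.range (D ℤ k)) by
          rw [span_range_derivation]; trivial) using Submodule.span_induction with
      | mem x hx =>
        obtain ⟨a, rfl⟩ := hx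
        simp [j, mapBaseChange_tmul, KaehlerDifferential.map_D, ← IsScalarTower.algebraMap_apply]
      | zero => simp
      | add x y _ _ hx hy => rw [tmul_add, map_add, map_add, map_add, hx, hy]
      | smul a x _ hx =>
        rw [tmul_smul, LinearMap.map_smul_of_tower, LinearMap.map_smul_of_tower, LinearMap.map_smul_of_tower, hx]
  let S : Submodule K (K ⊗[A] Ω[A⁄ℤ]) := LinearMap.ker (mapBaseChange ℤ A K)
  haveI : Module.Finite A (RingHom.ker (algebraMap A K)).Cotangent := Module.Finite.of_surjective _ (Ideal.toCotangent_surjective _)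
  haveI : Module.Finite A (S.restrictScalars A) := by
    refine Module.Finite.of_surjective
      (LinearMap.codRestrict (S.restrictScalars A) (kerCotangentToTensor ℤ A K) fun x => ?_) ?_
    · exact (exact_kerCotangentToTensor_mapBaseChange ℤ A K hsurj _).mpr ⟨x, rfl⟩
    · rintro ⟨y, hy⟩
      obtain ⟨x, hx⟩ := (exact_kerCotangentToTensor_mapBaseChange ℤ A K hsurj y).mp hy
      exact ⟨x, Subtype.ext hx⟩
  haveI : Module.Finite A S := ‹Module.Finite A (S.restrictScalars A)›
  haveI : Module.Finite K S := Module.Finite.of_restrictScalars_finite A K S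
  haveI : IsNoetherian K S := isNoetherian_of_isNoetherianRing_of_finite K S
  refine Module.Finite.of_injective ((j.comp (EGA41.imperfection ℤ k K).subtype).codRestrict S fun y => ?_)
    fun y z hyz => Subtype.ext (hj (congrArg Subtype.val hyz))
  show mapBaseChange ℤ A K (j y) = 0
  exact (hcomp y).trans y.2

end Finite

section Construction

variable {k K : Type u} [Field k] [Field K] [Algebra k K]

/-- Coordinates on the imperfection module, extended. -/
theorem exists_forms [hfin : Module.Finite K (EGA41.imperfection ℤ k K)] {n : ℕ}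
    (hn : Module.finrank K (EGA41.imperfection ℤ k K) ≤ n) :
    ∃ L : K ⊗[k] Ω[k⁄ℤ] →ₗ[K] (Fin n → K), ∀ z, mapBaseChange ℤ k K z = 0 → L z = 0 → z = 0 := by
  let Υ : Submodule K (K ⊗[k] Ω[k⁄ℤ]) := LinearMap.ker (mapBaseChange ℤ k K)
  haveI : Module.Finite K Υ := hfin
  obtain ⟨W, hW⟩ := Submodule.exists_isCompl Υ
  let p := Submodule.linearProjOfIsCompl Υ W hW
  haveI : Module.Free K ↥Υ := Module.Free.of_divisionRing K ↥Υ
  let b := Module.finBasis K Υ
  have hn' : Module.finrank K Υ ≤ n := hn
  let g : (Fin (Module.finrank K Υ) → K) →ₗ[K] (Fin n → K) :=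
    { toFun := fun v j => if h : (j : ℕ) < Module.finrank K Υ then v ⟨j, h⟩ else 0
      map_add' := fun v w => by ext j; dsimp; split <;> simp
      map_smul' := fun c v => by ext j; dsimp; split <;> simp }
  have hg : Function.Injective g := fun v w h => funext fun i => by
    have := congrFun h ⟨i, lt_of_lt_of_le i.2 hn'⟩
    simpa [g] using this
  refine ⟨g ∘ₗ b.equivFun.toLinearMap ∘ₗ p, fun z hz hL => ?_⟩
  have h1 : p z = 0 := b.equivFun.injective (hg (by rw [map_zero, map_zero]; exact hL))
  have h2 : p z = ⟨z, hz⟩ := Submodule.projectionOnto_apply_left hW ⟨z, hz⟩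
  rw [h1] at h2
  exact (congrArg Subtype.val h2).symm

/-- Injectivity detected by linear coefficients. -/
theorem injective_lTensor_of_detecting {R : Type u} [CommRing R] [Algebra k R] [Algebra R K] [IsScalarTower k R K]
    {n : ℕ} (L : K ⊗[k] Ω[k⁄ℤ] →ₗ[K] (Fin n → K)) (hL : ∀ z, mapBaseChange ℤ k K z = 0 → L z = 0 → z = 0)
    (c : R →+ (Fin n → K)) (hcmul : ∀ a b, c (a * b) = algebraMap R K a • c b + algebraMap R K b • c a)
    (hc : ∀ x, c (algebraMap k R x) = L (1 ⊗ₜ D ℤ k x)) :
    Function.Injective ((mapBaseChange ℤ k R).lTensor K) := by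
  let M := Ω[K⁄ℤ] × (Fin n → K)
  let f : R →+ M := ((D ℤ K).toLinearMap.toAddMonoidHom.comp (algebraMap R K).toAddMonoidHom).prod c
  let δ : Derivation ℤ R M := Derivation.mk' f.toIntLinearMap fun a b => by
    show (D ℤ K (algebraMap R K (a * b)), c (a * b)) =
      a • (D ℤ K (algebraMap R K b), c b) + b • (D ℤ K (algebraMap R K a), c a)
    rw [Prod.smul_mk, Prod.smul_mk, Prod.mk_add_mk, map_mul, Derivation.leibniz, hcmul, algebraMap_smul, algebraMap_smul,
      algebraMap_smul, algebraMap_smul]
  let g : K ⊗[R] Ω[R⁄ℤ] →ₗ[K] M := δ.liftKaehlerDifferential.liftBaseChange K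
  let E := TensorProduct.AlgebraTensorModule.cancelBaseChange k R K K Ω[k⁄ℤ]
  have key : ∀ z, g ((mapBaseChange ℤ k R).baseChange K (E.symm z)) = (mapBaseChange ℤ k K z, L z) := fun z => by
    induction z with
    | zero => rw [map_zero, map_zero, map_zero, map_zero, map_zero]; rfl
    | add x y hx hy => rw [map_add, map_add, map_add, map_add, map_add, hx, hy]; rfl
    | tmul q ω =>
      induction (show ω ∈ Submodule.span k (Set.range (D ℤ k)) by
          rw [span_range_derivation]; trivial) using Submodule.span_induction with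
      | mem x hx =>
        obtain ⟨a, rfl⟩ := hx
        rw [show q ⊗ₜ[k] D ℤ k a = q • ((1 : K) ⊗ₜ[k] D ℤ k a) by rw [smul_tmul', smul_eq_mul, mul_one],
          map_smul, map_smul, map_smul, map_smul, map_smul]
        refine Eq.trans (congrArg (q • ·) ?_) (Prod.smul_mk q _ _)
        simp only [E, TensorProduct.AlgebraTensorModule.cancelBaseChange_symm_tmul, LinearMap.baseChange_tmul,
          mapBaseChange_tmul, one_smul, KaehlerDifferential.map_D, g, LinearMap.liftBaseChange_tmul,
          Derivation.liftKaehlerDifferential_comp_D]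
        show (D ℤ K (algebraMap R K (algebraMap k R a)), c (algebraMap k R a)) = _
        rw [hc, ← IsScalarTower.algebraMap_apply]
      | zero => rw [tmul_zero, map_zero, map_zero, map_zero, map_zero, map_zero]; rfl
      | add x y _ _ hx hy => rw [tmul_add, map_add, map_add, map_add, map_add, map_add, hx, hy]; rfl
      | smul a x _ hx =>
        rw [tmul_smul, ← algebraMap_smul K a (q ⊗ₜ[k] x), map_smul, map_smul, map_smul, map_smul, map_smul, hx]
        rfl
  have hinj : Function.Injective ((mapBaseChange ℤ k R).baseChange K) := by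
    rw [injective_iff_map_eq_zero]
    intro z hz
    obtain ⟨w, rfl⟩ := E.symm.surjective z
    have h := key w
    rw [hz, map_zero] at h
    rw [hL w (congrArg Prod.fst h).symm (congrArg Prod.snd h).symm, map_zero]
  rwa [LinearMap.baseChange_eq_ltensor] at hinj

/-- The algebra: a twisted power series ring. -/
theorem exists_formallySmooth_algebra [Module.Finite K (EGA41.imperfection ℤ k K)] {n : ℕ}
    (hn : Module.finrank K (EGA41.imperfection ℤ k K) ≤ n) :
    ∃ (A : Type u) (_ : CommRing A) (_ : IsLocalRing A) (_ : IsNoetherianRing A) (_ : Algebra k A),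
      IsAdicComplete (maximalIdeal A) A ∧ CAlgX.IsAdicFormallySmooth k A (maximalIdeal A) ∧
        Nonempty (ResidueField A ≃ₐ[k] K) ∧ ringKrullDim A = n := by
  classical
  obtain ⟨L, hL⟩ := exists_forms hn
  obtain ⟨F, _, _, hFk, hD, hFK⟩ := exists_primeField_D k
  letI : Algebra F K := ((algebraMap k K).comp (algebraMap F k)).toAlgebra
  haveI : IsScalarTower F k K := IsScalarTower.of_algebraMap_eq fun _ => rfl
  let R := MvPowerSeries (Fin n) K
  let m : Ideal R := varIdeal (Fin n) K
  haveI hReg : IsRegularLocalRing R := Groth.Calg6.isRegularLocalRing_mvPowerSeries K n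
  have hm : maximalIdeal R = m := maximalIdeal_eq
  let d : k → Fin n → K := fun x => L (1 ⊗ₜ D ℤ k x)
  have hdmul : ∀ x y i, d (x * y) i = algebraMap k K x * d y i + algebraMap k K y * d x i := fun x y i => by
    simp only [d, Derivation.leibniz, tmul_add, tmul_smul, map_add, Pi.add_apply]
    rw [← algebraMap_smul K x ((1 : K) ⊗ₜ[k] D ℤ k y), ← algebraMap_smul K y ((1 : K) ⊗ₜ[k] D ℤ k x), map_smul, map_smul]
    rfl
  have hd1 : ∀ i, d 1 i = 0 := fun i => by simp [d]
  let ℓ : k → R := fun x => MvPowerSeries.C (algebraMap k K x) + ∑ i, MvPowerSeries.C (d x i) * MvPowerSeries.X i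
  have hlinmem : ∀ x, (∑ i, MvPowerSeries.C (d x i) * MvPowerSeries.X i : R) ∈ m := fun x =>
    sum_mem fun i _ => Ideal.mul_mem_left _ _ (X_mem i)
  have hℓmul : ∀ x y, ℓ (x * y) - ℓ x * ℓ y ∈ m ^ 2 := fun x y => by
    have h1 : (∑ i, MvPowerSeries.C (d (x * y) i) * MvPowerSeries.X i : R) =
        MvPowerSeries.C (algebraMap k K x) * ∑ i, MvPowerSeries.C (d y i) * MvPowerSeries.X i +
          MvPowerSeries.C (algebraMap k K y) * ∑ i, MvPowerSeries.C (d x i) * MvPowerSeries.X i := by
      rw [Finset.mul_sum, Finset.mul_sum, ← Finset.sum_add_distrib]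
      refine Finset.sum_congr rfl fun i _ => ?_
      rw [hdmul, map_add, map_mul, map_mul]; ring
    have h2 : ℓ (x * y) - ℓ x * ℓ y = -((∑ i, MvPowerSeries.C (d x i) * MvPowerSeries.X i) *
        ∑ i, MvPowerSeries.C (d y i) * MvPowerSeries.X i) := by
      simp only [ℓ]
      rw [h1, map_mul, map_mul]; ring
    rw [h2, sq]
    exact neg_mem (Ideal.mul_mem_mul (hlinmem x) (hlinmem y))
  let u : k →ₐ[F] R ⧸ m ^ 2 :=
    { toFun := fun x => Ideal.Quotient.mk _ (ℓ x)
      map_one' := by simp [ℓ, hd1]
      map_mul' := fun x y => by rw [← map_mul, Ideal.Quotient.eq]; exact hℓmul x y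
      map_zero' := by simp [ℓ, d]
      map_add' := fun x y => by
        rw [← map_add]
        refine congrArg _ ?_
        simp [ℓ, d, tmul_add, add_mul, Finset.sum_add_distrib]
        abel
      commutes' := fun a => by
        simp [ℓ, d, hD, ← IsScalarTower.algebraMap_apply]
        rw [IsScalarTower.algebraMap_apply F R (R ⧸ m ^ 2), MvPowerSeries.algebraMap_apply]
        simp }
  haveI : IsHausdorff (m.map (Ideal.Quotient.mk (m ^ 2))) (R ⧸ m ^ 2) := ⟨fun x hx => by
    have h := hx 2
    rw [smul_eq_mul, Ideal.mul_top, ← Ideal.map_pow, Ideal.map_quotient_self] at h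
    exact SModEq.bot.mp h⟩
  haveI : IsAdicComplete m R := Groth.Calg6.isAdicComplete_varIdeal
  obtain ⟨v, -, hv⟩ := Groth.Ega41Adic.exists_lift_complete (J := m ^ 2) (𝔠 := m)
    (Groth.Ega41Adic.isFormallySmoothAdic_bot_of_formallySmooth (A := F) (B := k))
    ⟨1, by rw [pow_one, Ideal.map_bot]; exact bot_le⟩ ⟨1, by rw [pow_one]; exact Ideal.pow_le_self two_ne_zero⟩ u
    ⟨1, by rw [pow_one, Ideal.map_bot]; exact bot_le⟩
  have hv' : ∀ x, v x - ℓ x ∈ m ^ 2 := fun x => Ideal.Quotient.eq.mp (AlgHom.congr_fun hv x)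
  have hconst : ∀ x, MvPowerSeries.constantCoeff (v x) = algebraMap k K x := fun x => by
    have h := (mem_varIdeal_iff _).mp (Ideal.pow_le_self two_ne_zero (hv' x))
    rw [map_sub, sub_eq_zero] at h
    rw [h]
    simp [ℓ]
  have hcoeff : ∀ x i, MvPowerSeries.coeff (Finsupp.single i 1) (v x) = d x i := fun x i => by
    have h := Groth.Calg6.coeff_eq_zero_of_mem_varIdeal_pow 2 (hv' x) (Finsupp.single i 1) (by simp)
    rw [map_sub, sub_eq_zero] at h
    rw [h]
    simp [ℓ, MvPowerSeries.coeff_X, MvPowerSeries.coeff_C, Finsupp.single_eq_single_iff]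
  letI : Algebra k R := v.toRingHom.toAlgebra
  letI : Algebra R K := (MvPowerSeries.constantCoeff : R →+* K).toAlgebra
  haveI : IsScalarTower k R K := IsScalarTower.of_algebraMap_eq fun x => (hconst x).symm
  have hkerK : ∀ r : R, algebraMap R K r = 0 ↔ residue R r = 0 := fun r => by
    rw [residue_eq_zero_iff, hm, mem_varIdeal_iff]
    rfl
  let e0 : ResidueField R →ₐ[k] K := Ideal.Quotient.liftₐ (maximalIdeal R) (IsScalarTower.toAlgHom k R K)
    fun r hr => (hkerK r).mpr ((residue_eq_zero_iff r).mpr hr)
  have he0 : Function.Bijective e0 := ⟨(injective_iff_map_eq_zero _).mpr fun y hy => by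
      obtain ⟨r, rfl⟩ := residue_surjective y
      exact (hkerK r).mp hy, fun c => ⟨residue R (MvPowerSeries.C c), (show MvPowerSeries.constantCoeff (MvPowerSeries.C c : R) = c from MvPowerSeries.constantCoeff_C c)⟩⟩
  refine ⟨R, inferInstance, inferInstance, inferInstance, inferInstance,
    (by rw [hm]; exact Groth.Calg6.isAdicComplete_varIdeal), ?_, ⟨AlgEquiv.ofBijective e0 he0⟩,
    Groth.Calg6.ringKrullDim_mvPowerSeries K n⟩
  refine isAdicFormallySmooth_field_iff.mpr ⟨symGrBijective_of_isRegularLocalRing, ?_⟩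
  let eR : ResidueField R ≃ₗ[R] K :=
    { (AlgEquiv.ofBijective e0 he0).toRingEquiv.toAddEquiv with
      map_smul' := fun a x => by
        show e0 (algebraMap R (ResidueField R) a * x) = algebraMap R K a * e0 x
        rw [map_mul]; rfl }
  refine (injective_lTensor_congr eR _).mpr ?_
  refine injective_lTensor_of_detecting L hL
    { toFun := fun r i => MvPowerSeries.coeff (Finsupp.single i 1) r
      map_zero' := by funext i; simp
      map_add' := fun a b => by funext i; simp } (fun a b => funext fun i => ?_) fun x => funext fun i => hcoeff x i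
  show MvPowerSeries.coeff (Finsupp.single i 1) (a * b) =
    MvPowerSeries.constantCoeff a * MvPowerSeries.coeff (Finsupp.single i 1) b +
      MvPowerSeries.constantCoeff b * MvPowerSeries.coeff (Finsupp.single i 1) a
  rw [MvPowerSeries.coeff_mul, Finsupp.antidiagonal_single,
    show (Finset.HasAntidiagonal.antidiagonal 1 : Finset (ℕ × ℕ)) = {((0 : ℕ), 1), (1, 0)} by decide]
  simp [mul_comm (MvPowerSeries.coeff (Finsupp.single i 1) a)]

end Construction

end Groth.Ega41Exist
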