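import Groth.Agent.Ega41Exist.PRadical

/-! Regularity after exponent one base changes forces formal smoothness. -/

universe u

open TensorProduct KaehlerDifferential IsLocalRing Polynomial

namespace Groth.Ega41Exist

open Groth.Ega41SymGr Groth.Ega41Adic

variable {k : Type u} [Field k]

theorem mapBaseChange_cancel {R K : Type u} [CommRing R] [CommRing K] [Algebra k R] [Algebra R K] [Algebra k K]
    [IsScalarTower k R K] (z : K ⊗[k] Ω[k⁄ℤ]) :
    mapBaseChange ℤ R K ((mapBaseChange ℤ k R).baseChange K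
      ((TensorProduct.AlgebraTensorModule.cancelBaseChange k R K K Ω[k⁄ℤ]).symm z)) = mapBaseChange ℤ k K z := by
  induction z with
  | zero => simp
  | add x y hx hy => simp only [map_add, hx, hy]
  | tmul c ω =>
    induction (show ω ∈ Submodule.span k (Set.range (D ℤ k)) by
        rw [span_range_derivation]; trivial) using Submodule.span_induction with
    | mem x hx =>
      obtain ⟨a, rfl⟩ := hx
      simp [mapBaseChange_tmul, KaehlerDifferential.map_D, ← IsScalarTower.algebraMap_apply]
    | zero => simp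
    | add x y _ _ hx hy => simp only [tmul_add, map_add, hx, hy]
    | smul a x _ hx =>
      rw [tmul_smul, ← algebraMap_smul K a (c ⊗ₜ[k] x), map_smul, map_smul, map_smul, map_smul, hx]

variable {K : Type u} [Field K] [Algebra k K]

/-- The elements whose differential lies in a given subspace. -/
theorem mem_of_mem_adjoin (p : ℕ) [CharP k p] [Fact p.Prime] (W : Submodule K (K ⊗[k] Ω[k⁄ℤ]))
    {L : Type u} [Field L] [Algebra k L] (S : Set L)
    (hS : ∀ b ∈ S, ∃ y : k, b ^ p = algebraMap k L y ∧ (1 : K) ⊗ₜ[k] D ℤ k y ∈ W)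
    (x : L) (hx : x ∈ IntermediateField.adjoin k S) :
    ∃ y : k, x ^ p = algebraMap k L y ∧ (1 : K) ⊗ₜ[k] D ℤ k y ∈ W := by
  haveI : ExpChar L p := expChar_of_injective_algebraMap (algebraMap k L).injective p
  induction hx using IntermediateField.adjoin_induction with
  | mem b hb => exact hS b hb
  | algebraMap c =>
    refine ⟨c ^ p, by rw [map_pow], ?_⟩
    rw [Derivation.leibniz_pow, show ((p : ℕ) • (c ^ (p - 1) • D ℤ k c)) = ((p : k) • (c ^ (p - 1) • D ℤ k c)) from
      (Nat.cast_smul_eq_nsmul k p _).symm, CharP.cast_eq_zero, zero_smul, tmul_zero]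
    exact zero_mem _
  | add a b _ _ ha hb =>
    obtain ⟨y, hy, hy'⟩ := ha
    obtain ⟨z, hz, hz'⟩ := hb
    exact ⟨y + z, by rw [add_pow_expChar, hy, hz, map_add], by rw [map_add, tmul_add]; exact add_mem hy' hz'⟩
  | inv a _ ha =>
    obtain ⟨y, hy, hy'⟩ := ha
    refine ⟨y⁻¹, by rw [inv_pow, hy, map_inv₀], ?_⟩
    rw [Derivation.leibniz_inv, tmul_smul]
    exact Submodule.smul_of_tower_mem W _ hy'
  | mul a b _ _ ha hb =>
    obtain ⟨y, hy, hy'⟩ := ha
    obtain ⟨z, hz, hz'⟩ := hb
    refine ⟨y * z, by rw [mul_pow, hy, hz, map_mul], ?_⟩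
    rw [Derivation.leibniz, tmul_add, tmul_smul, tmul_smul]
    exact add_mem (Submodule.smul_of_tower_mem W _ hz') (Submodule.smul_of_tower_mem W _ hy')

/-- A tower `k ⊆ k₁` with the roots of a finite set adjoined, avoiding a root of `a`. -/
theorem exists_field_of_notMem (p : ℕ) [CharP k p] [Fact p.Prime] (s : Finset k) (a : k)
    (ha : (1 : K) ⊗ₜ[k] D ℤ k a ∉ Submodule.span K ((fun x => (1 : K) ⊗ₜ[k] D ℤ k x) '' (s : Set k))) :
    ∃ (k₁ : Type u) (_ : Field k₁) (_ : Algebra k k₁), Module.Finite k k₁ ∧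
      (∀ x : k₁, x ^ p ∈ (algebraMap k k₁).range) ∧ (∀ i ∈ s, ∃ b : k₁, b ^ p = algebraMap k k₁ i) ∧
      ∀ b : k₁, b ^ p ≠ algebraMap k k₁ a := by
  classical
  let L := AlgebraicClosure k
  have hroot : ∀ i : k, ∃ b : L, b ^ p = algebraMap k L i := fun i =>
    IsAlgClosed.exists_pow_nat_eq _ (Nat.Prime.pos Fact.out)
  choose r hr using hroot
  let k₁ := IntermediateField.adjoin k (r '' (s : Set k))
  haveI : Finite (r '' (s : Set k)) := (s.finite_toSet.image r).to_subtype
  haveI : FiniteDimensional k k₁ := IntermediateField.finiteDimensional_adjoin fun x _ =>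
    Algebra.IsIntegral.isIntegral x
  let W : Submodule K (K ⊗[k] Ω[k⁄ℤ]) := Submodule.span K ((fun x => (1 : K) ⊗ₜ[k] D ℤ k x) '' (s : Set k))
  have hall : ∀ x : k₁, ∃ y : k, (x : L) ^ p = algebraMap k L y ∧ (1 : K) ⊗ₜ[k] D ℤ k y ∈ W := fun x =>
    mem_of_mem_adjoin p W (r '' (s : Set k)) (by rintro _ ⟨i, hi, rfl⟩; exact ⟨i, hr i, Submodule.subset_span ⟨i, hi, rfl⟩⟩) (x : L) x.2
  refine ⟨k₁, inferInstance, inferInstance, inferInstance, fun x => ?_, fun i hi => ?_, fun b hb => ha ?_⟩
  · obtain ⟨y, hy, -⟩ := hall x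
    exact ⟨y, Subtype.ext (by rw [SubmonoidClass.coe_pow, hy]; rfl)⟩
  · exact ⟨⟨r i, IntermediateField.subset_adjoin k _ ⟨i, hi, rfl⟩⟩, Subtype.ext (hr i)⟩
  · obtain ⟨y, hy, hy'⟩ := hall b
    have h1 := congrArg (Subtype.val : k₁ → L) hb
    rw [SubmonoidClass.coe_pow, hy] at h1
    rwa [(algebraMap k L).injective h1] at hy'

variable {A : Type u} [CommRing A] [IsLocalRing A] [IsNoetherianRing A] [Algebra k A]

/-- The key step: a root not available forces a nonzero derivative. -/
theorem eq_zero_of_relation (p : ℕ) [CharP k p] [Fact p.Prime]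
    (hreg : ∀ (k' : Type u) [Field k'] [Algebra k k'], Module.Finite k k' →
      (∀ x : k', x ^ p ∈ (algebraMap k k').range) → IsRegularRing (k' ⊗[k] A))
    (k₁ : Type u) [Field k₁] [Algebra k k₁] [Module.Finite k k₁] (hk₁ : ∀ x : k₁, x ^ p ∈ (algebraMap k k₁).range)
    (a : k) (ha : ∀ b : k₁, b ^ p ≠ algebraMap k k₁ a) :
    ∃ (V : Type u) (_ : AddCommGroup V) (_ : Module A V) (δ : Derivation ℤ A V),
      (∀ m ∈ maximalIdeal A, ∀ v : V, m • v = 0) ∧
      (∀ i : k, (∃ b : k₁, b ^ p = algebraMap k k₁ i) → δ (algebraMap k A i) = 0) ∧ δ (algebraMap k A a) ≠ 0 := by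
  classical
  have hp : p.Prime := Fact.out
  haveI : ExpChar k p := ExpChar.prime hp
  haveI : ExpChar k₁ p := expChar_of_injective_algebraMap (algebraMap k k₁).injective p
  let f : k₁[X] := X ^ p - C (algebraMap k k₁ a)
  have hirr : Irreducible f := X_pow_sub_C_irreducible_of_prime hp ha
  haveI := Fact.mk hirr
  have hmonic : f.Monic := monic_X_pow_sub_C _ hp.ne_zero
  haveI : Module.Finite k₁ (AdjoinRoot f) := hmonic.finite_adjoinRoot
  haveI : Module.Finite k (AdjoinRoot f) := Module.Finite.trans k₁ (AdjoinRoot f)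
  haveI : ExpChar (AdjoinRoot f) p := expChar_of_injective_algebraMap (algebraMap k₁ (AdjoinRoot f)).injective p
  have hk₂ : ∀ x : AdjoinRoot f, x ^ p ∈ (algebraMap k (AdjoinRoot f)).range := by
    intro x
    induction x using AdjoinRoot.induction_on with
    | ih q =>
      induction q using Polynomial.induction_on' with
      | add q r hq hr => rw [map_add, add_pow_expChar]; exact add_mem hq hr
      | monomial n c =>
        obtain ⟨d, hd⟩ := hk₁ c
        refine ⟨d * a ^ n, ?_⟩
        have hroot : (AdjoinRoot.root f) ^ p = algebraMap k (AdjoinRoot f) a := by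
          have h0 : AdjoinRoot.mk f f = 0 := AdjoinRoot.mk_self
          simp only [f, map_sub, map_pow, AdjoinRoot.mk_X, AdjoinRoot.mk_C, sub_eq_zero] at h0
          rw [h0, IsScalarTower.algebraMap_apply k k₁ (AdjoinRoot f), AdjoinRoot.algebraMap_eq]
        rw [← C_mul_X_pow_eq_monomial, map_mul (AdjoinRoot.mk f), map_pow (AdjoinRoot.mk f), AdjoinRoot.mk_C, AdjoinRoot.mk_X,
          mul_pow, ← map_pow (AdjoinRoot.of f),
          ← hd, ← pow_mul, mul_comm n, pow_mul, hroot, map_mul, map_pow,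
          IsScalarTower.algebraMap_apply k k₁ (AdjoinRoot f) d, AdjoinRoot.algebraMap_eq]
  haveI hR : IsRegularRing (AdjoinRoot f ⊗[k] A) := hreg (AdjoinRoot f) inferInstance hk₂
  haveI := isLocalRing_tensor' (A := A) p hk₂
  let g : (A ⊗[k] k₁)[X] := f.map Algebra.TensorProduct.includeRight.toRingHom
  let e : (AdjoinRoot f ⊗[k] A) ≃+* ((A ⊗[k] k₁)[X] ⧸ Ideal.span {g}) :=
    (Algebra.TensorProduct.comm k (AdjoinRoot f) A).toRingEquiv.trans (AdjoinRoot.tensorAlgEquiv f g rfl).toRingEquiv
  haveI : IsLocalRing ((A ⊗[k] k₁)[X] ⧸ Ideal.span {g}) := e.isLocalRing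
  haveI : IsRegularRing ((A ⊗[k] k₁)[X] ⧸ Ideal.span {g}) := IsRegularRing.of_ringEquiv e
  haveI : IsRegularLocalRing ((A ⊗[k] k₁)[X] ⧸ Ideal.span {g}) := IsRegularLocalRing.of_isRegularRing_of_isLocalRing _
  -- the ring `A ⊗ k₁` is a regular local ring, in particular a domain
  haveI := isLocalRing_tensor (A := A) p hk₁
  haveI : IsNoetherianRing (A ⊗[k] k₁) := by
    haveI : Module.Finite A (A ⊗[k] k₁) := Module.Finite.base_change k A k₁
    exact IsNoetherianRing.of_finite A (A ⊗[k] k₁)
  haveI : IsRegularRing (A ⊗[k] k₁) :=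
    haveI := hreg k₁ inferInstance hk₁
    IsRegularRing.of_ringEquiv (Algebra.TensorProduct.comm k k₁ A).toRingEquiv
  haveI : IsRegularLocalRing (A ⊗[k] k₁) := IsRegularLocalRing.of_isRegularRing_of_isLocalRing _
  haveI : IsDomain (A ⊗[k] k₁) := Groth.Ega4Algebra1.isDomain_of_isRegularLocalRing _
  let P := (A ⊗[k] k₁)[X]
  let π : P →+* P ⧸ Ideal.span {g} := Ideal.Quotient.mk _
  let M : Ideal P := (maximalIdeal (P ⧸ Ideal.span {g})).comap π
  haveI : M.IsMaximal := Ideal.comap_isMaximal_of_surjective _ Ideal.Quotient.mk_surjective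
  have hg0 : g ≠ 0 := (hmonic.map _).ne_zero
  have hgM : g ∉ M ^ 2 := notMem_sq_of_isRegularLocalRing_quotient hg0 M rfl
  have hgM1 : g ∈ M := by
    rw [Ideal.mem_comap]
    rw [show π g = 0 from Ideal.Quotient.eq_zero_iff_mem.mpr (Ideal.mem_span_singleton_self g)]
    exact zero_mem _
  obtain ⟨F, _, _, -, -, hFK⟩ := exists_primeField_D k
  letI : Algebra F P := ((algebraMap k P).comp (algebraMap F k)).toAlgebra
  letI : Field (P ⧸ M) := Ideal.Quotient.field M
  haveI : IsScalarTower F k (P ⧸ M) := IsScalarTower.of_algebraMap_eq fun x => rfl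
  haveI : Algebra.FormallySmooth F (P ⧸ M) := hFK (P ⧸ M)
  obtain ⟨δ0, hδ0⟩ := exists_derivation_cotangent (A := F) M
  let δ : Derivation ℤ A M.Cotangent := Derivation.mk'
    ((δ0 : P →+ M.Cotangent).comp (algebraMap A P).toAddMonoidHom).toIntLinearMap fun x y => by
      show δ0 (algebraMap A P (x * y)) = x • δ0 (algebraMap A P y) + y • δ0 (algebraMap A P x)
      rw [map_mul, Derivation.leibniz, algebraMap_smul, algebraMap_smul]
  have hpP : (p : P) = 0 := by
    rw [← map_natCast (algebraMap k P), CharP.cast_eq_zero, map_zero]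
  have hpow : ∀ x : P, δ0 (x ^ p) = 0 := fun x => by
    rw [Derivation.leibniz_pow, ← Nat.cast_smul_eq_nsmul P, smul_smul, hpP, zero_mul]
    exact zero_smul P (δ0 x)
  refine ⟨M.Cotangent, inferInstance, inferInstance, δ, fun m hm v => ?_, fun i ⟨b, hb⟩ => ?_, fun h0 => hgM ?_⟩
  · have hmM : algebraMap A P m ∈ M := by
      rw [Ideal.mem_comap]
      by_contra hu
      rw [mem_maximalIdeal, mem_nonunits_iff, not_not] at hu
      -- units of `A` are detected in the quotient
      have hu2 := hu.map e.symm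
      have hem : e.symm (π (algebraMap A P m)) = (1 : AdjoinRoot f) ⊗ₜ[k] m := by
        apply e.injective
        rw [RingEquiv.apply_symm_apply]
        show π (algebraMap A P m) = AdjoinRoot.tensorAlgEquiv f g rfl (m ⊗ₜ (1 : AdjoinRoot f))
        exact ((AdjoinRoot.tensorAlgEquiv f g rfl).commutes m).symm
      rw [hem] at hu2
      have hu3 : IsUnit ((Algebra.TensorProduct.includeLeftRingHom : A →+* A ⊗[k] AdjoinRoot f) m) := by
        have := hu2.map (Algebra.TensorProduct.comm k (AdjoinRoot f) A)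
        rwa [Algebra.TensorProduct.comm_tmul] at this
      haveI : Nontrivial (A ⊗[k] AdjoinRoot f) := (includeLeftRingHom_injective (k := k) (E := AdjoinRoot f) (A := A)).nontrivial
      haveI : ExpChar (A ⊗[k] AdjoinRoot f) p := expChar_of_injective_algebraMap (algebraMap k (A ⊗[k] AdjoinRoot f)).injective p
      obtain ⟨y, hy⟩ := hu3.exists_left_inv
      obtain ⟨b, hb⟩ := exists_pow_eq_includeLeft p hk₂ y
      refine (mem_maximalIdeal _).mp hm ((isUnit_pow_iff hp.ne_zero).mp (IsUnit.of_mul_eq_one b ?_))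
      apply includeLeftRingHom_injective (k := k) (E := AdjoinRoot f) (A := A)
      rw [map_mul, map_one, map_pow, hb, ← mul_pow, mul_comm, hy, one_pow]
    obtain ⟨x, rfl⟩ := Ideal.toCotangent_surjective M v
    rw [← algebraMap_smul P m, ← map_smul, Ideal.toCotangent_eq_zero, sq]
    exact Ideal.mul_mem_mul hmM x.2
  · show δ0 (algebraMap A P (algebraMap k A i)) = 0
    have : algebraMap A P (algebraMap k A i) = (C ((1 : A) ⊗ₜ[k] b) : P) ^ p := by
      rw [← map_pow, Algebra.TensorProduct.tmul_pow, one_pow, hb, ← IsScalarTower.algebraMap_apply,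
        Polynomial.algebraMap_apply]
      refine congrArg C ?_
      rw [Algebra.TensorProduct.algebraMap_apply, Algebra.algebraMap_eq_smul_one (A := A), smul_tmul,
        ← Algebra.algebraMap_eq_smul_one]
    rw [this, hpow]
  · have hgx : g = (X : P) ^ p - algebraMap A P (algebraMap k A a) := by
      simp only [g, f, Polynomial.map_sub, Polynomial.map_pow, map_X, map_C]
      rw [← IsScalarTower.algebraMap_apply, Polynomial.algebraMap_apply]
      refine congrArg (fun z => (X : P) ^ p - C z) ?_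
      show (1 : A) ⊗ₜ[k] algebraMap k k₁ a = _
      rw [Algebra.TensorProduct.algebraMap_apply, Algebra.algebraMap_eq_smul_one (A := A), smul_tmul,
        ← Algebra.algebraMap_eq_smul_one]
    have hd : δ0 g = 0 := by
      rw [hgx, map_sub, hpow, zero_sub, neg_eq_zero]
      exact h0
    have h1 := hδ0 ⟨g, hgM1⟩
    rw [show δ0 ((⟨g, hgM1⟩ : M) : P) = δ0 g from rfl, hd, eq_comm, Ideal.toCotangent_eq_zero] at h1
    exact h1

/-- Regularity after exponent one base changes gives injectivity of differentials. -/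
theorem injective_of_regular_baseChange (p : ℕ) [ExpChar k p]
    (hreg : ∀ (k' : Type u) [Field k'] [Algebra k k'], Module.Finite k k' →
      (∀ x : k', x ^ p ∈ (algebraMap k k').range) → IsRegularRing (k' ⊗[k] A)) :
    Function.Injective ((mapBaseChange ℤ k A).lTensor (ResidueField A)) := by
  classical
  haveI : IsScalarTower k A (ResidueField A) := inferInstance
  rw [← LinearMap.baseChange_eq_ltensor (A := ResidueField A)]
  let K' := ResidueField A
  let E := TensorProduct.AlgebraTensorModule.cancelBaseChange k A K' K' Ω[k⁄ℤ]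
  rw [injective_iff_map_eq_zero]
  intro z0 hz0
  obtain ⟨z, rfl⟩ := E.symm.surjective z0
  suffices z = 0 by rw [this, map_zero]
  cases ‹ExpChar k p› with
  | zero =>
    haveI : CharZero K' := charZero_of_injective_algebraMap (algebraMap k K').injective
    have h1 := mapBaseChange_cancel (R := A) z
    rw [show (mapBaseChange ℤ k A).baseChange K' (E.symm z) = 0 from hz0, map_zero] at h1
    exact Groth.Ega41Sep.injective_mapBaseChange_charZero k K' (h1.symm.trans (map_zero _).symm)
  | prime hp =>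
    haveI := Fact.mk hp
    by_contra hz
    have hex : ∃ n, ∃ w : K' ⊗[k] Ω[k⁄ℤ], w ≠ 0 ∧ (mapBaseChange ℤ k A).baseChange K' (E.symm w) = 0 ∧
        ∃ s : Finset k, s.card = n ∧ w ∈ Submodule.span K' ((fun x => (1 : K') ⊗ₜ[k] D ℤ k x) '' (s : Set k)) := by
      have htop : z ∈ Submodule.span K' (Set.range fun x => (1 : K') ⊗ₜ[k] D ℤ k x) := by
        clear hz hz0
        induction z with
        | zero => exact zero_mem _
        | tmul c ω =>
          induction (show ω ∈ Submodule.span k (Set.range (D ℤ k)) by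
              rw [span_range_derivation]; trivial) using Submodule.span_induction with
          | mem x hx =>
            obtain ⟨b, rfl⟩ := hx
            rw [show c ⊗ₜ[k] D ℤ k b = c • ((1 : K') ⊗ₜ[k] D ℤ k b) by rw [smul_tmul', smul_eq_mul, mul_one]]
            exact Submodule.smul_mem _ _ (Submodule.subset_span ⟨b, rfl⟩)
          | zero => rw [tmul_zero]; exact zero_mem _
          | add x y _ _ hx hy => rw [tmul_add]; exact add_mem hx hy
          | smul r x _ hx => rw [tmul_smul]; exact Submodule.smul_of_tower_mem _ r hx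
        | add x y hx hy => exact add_mem hx hy
      obtain ⟨t, htsub, ht⟩ := Submodule.mem_span_finite_of_mem_span htop
      choose b hb using fun y : t => htsub y.2
      refine ⟨_, z, hz, hz0, Finset.univ.image b, rfl, Submodule.span_mono ?_ ht⟩
      intro y hy
      exact ⟨b ⟨y, hy⟩, Finset.mem_coe.mpr (Finset.mem_image_of_mem _ (Finset.mem_univ _)), hb ⟨y, hy⟩⟩
    obtain ⟨w, hw, hw0, s, hs, hmem⟩ := Nat.find_spec hex
    have hne : s.Nonempty := Finset.nonempty_of_ne_empty fun h => hw (by simpa [h] using hmem)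
    obtain ⟨a, ha⟩ := hne
    have hmin : ¬ w ∈ Submodule.span K' ((fun x => (1 : K') ⊗ₜ[k] D ℤ k x) '' ((s.erase a : Finset k) : Set k)) := fun h =>
      Nat.find_min hex (m := (s.erase a).card) (by rw [← hs]; exact Finset.card_erase_lt_of_mem ha)
        ⟨w, hw, hw0, s.erase a, rfl, h⟩
    rw [← Finset.insert_erase ha, Finset.coe_insert, Set.image_insert_eq, Submodule.mem_span_insert] at hmem
    obtain ⟨c, r, hr, rfl⟩ := hmem
    have hc : c ≠ 0 := fun h => hmin (by rw [h, zero_smul, zero_add]; exact hr)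
    have hnot : (1 : K') ⊗ₜ[k] D ℤ k a ∉
        Submodule.span K' ((fun x => (1 : K') ⊗ₜ[k] D ℤ k x) '' ((s.erase a : Finset k) : Set k)) := fun h =>
      hmin (add_mem (Submodule.smul_mem _ c h) hr)
    obtain ⟨k₁, _, _, hfin, hk₁, hroots, hnoroot⟩ := exists_field_of_notMem p (s.erase a) a hnot
    obtain ⟨V, _, _, δ, hV, hδroots, hδa⟩ := eq_zero_of_relation p hreg k₁ hk₁ a hnoroot
    letI : Module K' V := Module.IsTorsionBySet.module (fun v m => hV m m.2 v)
    haveI : IsScalarTower A K' V := Module.IsTorsionBySet.isScalarTower _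
    let Φ : K' ⊗[A] Ω[A⁄ℤ] →ₗ[K'] V := δ.liftKaehlerDifferential.liftBaseChange K'
    let ψ : K' ⊗[k] Ω[k⁄ℤ] →ₗ[K'] V := Φ ∘ₗ (mapBaseChange ℤ k A).baseChange K' ∘ₗ E.symm.toLinearMap
    have hψ : ∀ i : k, ψ ((1 : K') ⊗ₜ[k] D ℤ k i) = δ (algebraMap k A i) := fun i => by
      simp only [ψ, Φ, E, LinearMap.comp_apply, LinearEquiv.coe_coe,
        TensorProduct.AlgebraTensorModule.cancelBaseChange_symm_tmul, LinearMap.baseChange_tmul, mapBaseChange_tmul,
        one_smul, KaehlerDifferential.map_D, LinearMap.liftBaseChange_tmul, Derivation.liftKaehlerDifferential_comp_D]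
    have hrW : ψ r = 0 := by
      have hle : Submodule.span K' ((fun x => (1 : K') ⊗ₜ[k] D ℤ k x) '' ((s.erase a : Finset k) : Set k)) ≤
          LinearMap.ker ψ := by
        rw [Submodule.span_le]
        rintro _ ⟨i, hi, rfl⟩
        exact (hψ i).trans (hδroots i (hroots i hi))
      exact hle hr
    have h1 : ψ (c • ((1 : K') ⊗ₜ[k] D ℤ k a) + r) = 0 := by
      show Φ ((mapBaseChange ℤ k A).baseChange K' (E.symm _)) = 0
      rw [hw0, map_zero]
    rw [map_add, map_smul, hrW, add_zero, hψ] at h1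
    exact hδa ((smul_eq_zero.mp h1).resolve_left hc)

/-- The regular base change criterion. -/
theorem isAdicFormallySmooth_iff_regular_baseChange (p : ℕ) [ExpChar k p] :
    CAlgX.IsAdicFormallySmooth k A (maximalIdeal A) ↔
      ∀ (k' : Type u) [Field k'] [Algebra k k'], Module.Finite k k' →
        (∀ x : k', x ^ p ∈ (algebraMap k k').range) → IsRegularRing (k' ⊗[k] A) := by
  constructor
  · intro h k' _ _ _ hk'
    exact isRegularRing_tensor p hk' h
  · intro hreg
    have h1 : IsRegularRing A :=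
      haveI := hreg k inferInstance fun x => ⟨x ^ p, rfl⟩
      IsRegularRing.of_ringEquiv (Algebra.TensorProduct.lid k A).toRingEquiv
    haveI : IsRegularLocalRing A := IsRegularLocalRing.of_isRegularRing_of_isLocalRing _
    exact isAdicFormallySmooth_field_iff.mpr ⟨symGrBijective_of_isRegularLocalRing, injective_of_regular_baseChange p hreg⟩

end Groth.Ega41Exist
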