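import Groth.Agent.Ega41SymGr.Regular
import Groth.Agent.Ega4Algebra1.RegularLocal
import Groth.Agent.Calg5.CohenStructure
import Groth.Agent.Calg1.CompletionLocal
import Groth.Agent.Ega41Exist.Imperfection
import Groth.Agent.Ega41Exist.PRadicalConv
import Groth.Agent.EGA41Two.RegularLift
import Groth.Prelude.Def_Found

/-! Formally smooth local algebras: geometric regularity and completions. -/

universe u

open TensorProduct IsLocalRing

namespace Groth.Ega41Exist

open Groth.Ega41SymGr Groth.Ega41Adic

variable {k A : Type u} [Field k] [CommRing A] [IsLocalRing A] [IsNoetherianRing A] [Algebra k A]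

theorem isRegularRing_tensor_finite {E : Type u} [Field E] [Algebra k E] [Module.Finite k E]
    (h : CAlgX.IsAdicFormallySmooth k A (maximalIdeal A)) : IsRegularRing (E ⊗[k] A) := by
  haveI := isNoetherianRing_tensor' (k := k) (E := E) (A := A)
  let i : A →ₐ[k] E ⊗[k] A := Algebra.TensorProduct.includeRight
  have hmax : ∀ (Q : Ideal (E ⊗[k] A)) [Q.IsMaximal], IsRegularLocalRing (Localization.AtPrime Q) := by
    intro Q hQ
    have hiQ : ∀ a ∈ maximalIdeal A, i a ∈ Q := by
      haveI : Module.Finite A (A ⊗[k] E) := Module.Finite.base_change k A E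
      let Q' : Ideal (A ⊗[k] E) := Q.comap (Algebra.TensorProduct.comm k A E).toRingEquiv
      haveI : Q'.IsMaximal := Ideal.comap_isMaximal_of_surjective _ (Algebra.TensorProduct.comm k A E).toRingEquiv.surjective
      haveI : (Q'.comap (algebraMap A (A ⊗[k] E))).IsMaximal :=
        Ideal.isMaximal_comap_of_isIntegral_of_isMaximal Q'
      intro a ha
      have h1 : a ∈ Q'.comap (algebraMap A (A ⊗[k] E)) := (eq_maximalIdeal ‹_›).symm ▸ ha
      exact h1
    let L := Localization.AtPrime Q
    have hL : CAlgX.IsAdicFormallySmooth E L (maximalIdeal L) := by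
      intro C _ _ J hJ ψ ⟨N, hN⟩
      letI : Algebra k C := ((algebraMap E C).comp (algebraMap k E)).toAlgebra
      haveI : IsScalarTower k E C := IsScalarTower.of_algebraMap_eq fun _ => rfl
      let ψ' : E ⊗[k] A →ₐ[E] C ⧸ J := ψ.comp (IsScalarTower.toAlgHom E (E ⊗[k] A) L)
      have hmap : (maximalIdeal A).map ((algebraMap (E ⊗[k] A) L).comp i.toRingHom) ≤ maximalIdeal L := by
        rw [Ideal.map_le_iff_le_comap]
        intro a ha
        exact (IsLocalization.AtPrime.to_map_mem_maximal_iff L Q (i a)).mpr (hiQ a ha)
      obtain ⟨v, hv⟩ := h C J hJ ((ψ'.restrictScalars k).comp i) ⟨N, fun x hx =>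
        hN _ (Ideal.pow_right_mono hmap N (by rw [← Ideal.map_pow]; exact Ideal.mem_map_of_mem _ hx))⟩
      let w : E ⊗[k] A →ₐ[E] C := Algebra.TensorProduct.lift (Algebra.ofId E C) v fun _ _ => Commute.all _ _
      have hw : ∀ b, Ideal.Quotient.mk J (w b) = ψ (algebraMap _ L b) := by
        have : (Ideal.Quotient.mkₐ E J).comp w = ψ' :=
          Algebra.TensorProduct.ext (AlgHom.ext fun e => by
            show Ideal.Quotient.mk J (algebraMap E C e * v 1) = ψ' (e ⊗ₜ 1)
            rw [map_one, mul_one]
            exact (ψ'.commutes e).symm) (AlgHom.ext fun a => by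
            show Ideal.Quotient.mk J (algebraMap E C 1 * v a) = ψ' (1 ⊗ₜ a)
            rw [map_one, one_mul]
            exact AlgHom.congr_fun hv a)
        exact fun b => AlgHom.congr_fun this b
      have hu : ∀ b : Q.primeCompl, IsUnit (w b) := fun b => by
        have := (IsLocalization.map_units L b).map ψ
        rw [← hw] at this
        exact (IsNilpotent.isUnit_quotient_mk_iff ⟨2, hJ⟩).mp this
      refine ⟨IsLocalization.liftAlgHom (f := w) hu, AlgHom.coe_ringHom_injective (IsLocalization.ringHom_ext Q.primeCompl ?_)⟩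
      refine RingHom.ext fun b => ?_
      show Ideal.Quotient.mk J (IsLocalization.liftAlgHom (S := L) (f := w) hu (algebraMap _ L b)) = ψ (algebraMap _ L b)
      erw [IsLocalization.lift_eq]
      exact hw b
    exact Groth.Ega41Adic.isRegularLocalRing_of_isAdicFormallySmooth hL
  exact Groth.EGA41Two.isRegularRing_of_forall_maximal hmax

section Completion

theorem bijective_residueField_map_completion :
    Function.Bijective (ResidueField.map (algebraMap A (AdicCompletion (maximalIdeal A) A))) := by
  refine ⟨RingHom.injective _, fun y => ?_⟩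
  obtain ⟨x, rfl⟩ := residue_surjective y
  obtain ⟨a, ha⟩ := Ideal.Quotient.mk_surjective (AdicCompletion.evalOneₐ (maximalIdeal A) x)
  refine ⟨residue A a, ?_⟩
  rw [ResidueField.map_residue, ← sub_eq_zero, ← map_sub, residue_eq_zero_iff, AdicCompletion.maximalIdeal_eq_map,
    ← AdicCompletion.ker_evalOneₐ_eq_map (maximalIdeal A) (IsNoetherian.noetherian _), RingHom.mem_ker]
  show AdicCompletion.evalOneₐ (maximalIdeal A) _ = 0
  rw [map_sub, AlgHom.commutes, ← ha]
  exact sub_self _

/-- A coefficient map identifies a regular completion with a power series ring. -/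
theorem exists_ringEquiv_of_section [IsRegularLocalRing A]
    (σ : ResidueField A →+* AdicCompletion (maximalIdeal A) A)
    (hσ : ∀ x, residue (AdicCompletion (maximalIdeal A) A) (σ x) =
      ResidueField.map (algebraMap A (AdicCompletion (maximalIdeal A) A)) x) :
    ∃ (n : ℕ) (e : AdicCompletion (maximalIdeal A) A ≃+* MvPowerSeries (Fin n) (ResidueField A)),
      ∀ x, e (σ x) = algebraMap (ResidueField A) (MvPowerSeries (Fin n) (ResidueField A)) x := by
  haveI : IsRegularLocalRing (AdicCompletion (maximalIdeal A) A) :=
    (Groth.Calg1.isRegularLocalRing_adicCompletion_iff A).mp inferInstance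
  haveI : IsAdicComplete (maximalIdeal (AdicCompletion (maximalIdeal A) A)) (AdicCompletion (maximalIdeal A) A) := by
    rw [AdicCompletion.maximalIdeal_eq_map]
    exact (IsAdicComplete.map_algebraMap_iff _ _).mpr (AdicCompletion.isAdicComplete (IsNoetherian.noetherian _))
  letI : Algebra (ResidueField A) (AdicCompletion (maximalIdeal A) A) := σ.toAlgebra
  obtain ⟨d, ⟨e⟩⟩ := Groth.Calg5.CohenStructure.exists_algEquiv_mvPowerSeries
    (AdicCompletion (maximalIdeal A) A) (ResidueField A) (by
      convert bijective_residueField_map_completion (A := A) using 1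
      exact funext fun x => hσ x)
  exact ⟨d, e.toRingEquiv, fun x => e.commutes x⟩

theorem exists_ringEquiv_completion [IsRegularLocalRing A] [Algebra k A] :
    ∃ n : ℕ, Nonempty (AdicCompletion (maximalIdeal A) A ≃+* MvPowerSeries (Fin n) (ResidueField A)) := by
  haveI : IsAdicComplete (maximalIdeal (AdicCompletion (maximalIdeal A) A)) (AdicCompletion (maximalIdeal A) A) := by
    rw [AdicCompletion.maximalIdeal_eq_map]
    exact (IsAdicComplete.map_algebraMap_iff _ _).mpr (AdicCompletion.isAdicComplete (IsNoetherian.noetherian _))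
  obtain ⟨s, hs⟩ := Groth.Calg5.CohenStructure.exists_section_of_field (AdicCompletion (maximalIdeal A) A) k
  obtain ⟨n, e, -⟩ := exists_ringEquiv_of_section
    (s.comp (ResidueField.map (algebraMap A (AdicCompletion (maximalIdeal A) A)))) fun x => RingHom.congr_fun hs _
  exact ⟨n, ⟨e⟩⟩

theorem tfae_formallySmooth [Algebra.IsGeometricallyReduced k (ResidueField A)] :
    [CAlgX.IsAdicFormallySmooth k A (maximalIdeal A),
     ∃ (n : ℕ) (e : AdicCompletion (maximalIdeal A) A ≃+* MvPowerSeries (Fin n) (ResidueField A)),
       ∀ x : k, e (algebraMap A (AdicCompletion (maximalIdeal A) A) (algebraMap k A x)) =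
         algebraMap (ResidueField A) (MvPowerSeries (Fin n) (ResidueField A)) (algebraMap k (ResidueField A) x),
     ∃ n : ℕ, Nonempty (AdicCompletion (maximalIdeal A) A ≃+* MvPowerSeries (Fin n) (ResidueField A)),
     IsRegularLocalRing A].TFAE := by
  have hFS : Algebra.FormallySmooth k (ResidueField A) :=
    (Groth.Ega41Sep.formallySmooth_iff_isGeometricallyReduced k (ResidueField A)).mpr inferInstance
  tfae_have 1 → 2 := by
    intro h
    haveI := Groth.Ega41Adic.isRegularLocalRing_of_isAdicFormallySmooth h
    let C := AdicCompletion (maximalIdeal A) A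
    haveI : IsAdicComplete (maximalIdeal C) C := by
      rw [AdicCompletion.maximalIdeal_eq_map]
      exact (IsAdicComplete.map_algebraMap_iff _ _).mpr (AdicCompletion.isAdicComplete (IsNoetherian.noetherian _))
    let ρ : ResidueField A →ₐ[k] C ⧸ maximalIdeal C :=
      { ResidueField.map (algebraMap A C) with
        commutes' := fun x => by
          show ResidueField.map (algebraMap A C) (algebraMap k (ResidueField A) x) = _
          rw [IsScalarTower.algebraMap_apply k A (ResidueField A)]
          show ResidueField.map (algebraMap A C) (residue A (algebraMap k A x)) = _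
          rw [ResidueField.map_residue, ← IsScalarTower.algebraMap_apply]
          rfl }
    obtain ⟨σ, hσ⟩ := Algebra.FormallySmooth.exists_mkₐ_comp_eq_of_isAdicComplete (I := maximalIdeal C) ρ
    obtain ⟨n, e, he⟩ := exists_ringEquiv_of_section σ.toRingHom fun x => AlgHom.congr_fun hσ x
    refine ⟨n, e, fun x => ?_⟩
    rw [← he, ← IsScalarTower.algebraMap_apply]
    exact congrArg e (σ.commutes x).symm
  tfae_have 2 → 3 := fun ⟨n, e, _⟩ => ⟨n, ⟨e⟩⟩
  tfae_have 3 → 4 := by
    rintro ⟨n, ⟨e⟩⟩
    haveI := Groth.Calg6.isRegularLocalRing_mvPowerSeries (ResidueField A) n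
    haveI : IsRegularLocalRing (AdicCompletion (maximalIdeal A) A) := IsRegularLocalRing.of_ringEquiv e.symm
    exact (Groth.Calg1.isRegularLocalRing_adicCompletion_iff A).mpr inferInstance
  tfae_have 4 → 1 := by
    intro h
    refine isAdicFormallySmooth_field_iff.mpr ⟨symGrBijective_of_isRegularLocalRing, ?_⟩
    have hinj := (Groth.Ega41Sep.formallySmooth_iff_injective k (ResidueField A)).mp hFS
    rw [← LinearMap.baseChange_eq_ltensor (A := ResidueField A), injective_iff_map_eq_zero]
    intro z hz
    obtain ⟨w, rfl⟩ := (TensorProduct.AlgebraTensorModule.cancelBaseChange k A (ResidueField A) (ResidueField A)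
      Ω[k⁄ℤ]).symm.surjective z
    have h1 := mapBaseChange_cancel (R := A) w
    rw [hz, map_zero] at h1
    rw [hinj (h1.symm.trans (map_zero _).symm), map_zero]
  tfae_finish

end Completion

end Groth.Ega41Exist
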