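import Groth.Agent.Ega41Exist.Imperfection
import Groth.Agent.Ega4Algebra1.RegularLocal
import Mathlib.FieldTheory.KummerPolynomial
import Mathlib.FieldTheory.IntermediateField.Adjoin.Basic
import Mathlib.RingTheory.AdjoinRoot
import Mathlib.RingTheory.RegularLocalRing.Defs
import Mathlib.FieldTheory.IsAlgClosed.AlgebraicClosure
import Mathlib.RingTheory.Localization.AtPrime.Basic

/-! Regularity under purely inseparable base change of exponent one and formal smoothness. -/

universe u

open TensorProduct KaehlerDifferential IsLocalRing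

namespace Groth.Ega41Exist

open Groth.Ega41SymGr Groth.Ega41Adic

theorem isLocalRing_of_pow_mem {A B : Type*} [CommRing A] [IsLocalRing A] [CommRing B] [Nontrivial B] {f : A →+* B}
    (hf : Function.Injective f) (p : ℕ) [ExpChar B p] (h : ∀ x : B, ∃ a, f a = x ^ p) : IsLocalRing B := by
  have hp : p ≠ 0 := (expChar_pos B p).ne'
  have hu : ∀ (x : B) (a : A), f a = x ^ p → (IsUnit x ↔ IsUnit a) := by
    refine fun x a hxa => ⟨fun hx => ?_, fun ha => (isUnit_pow_iff hp).mp (hxa ▸ ha.map f)⟩
    obtain ⟨y, hy⟩ := hx.exists_left_inv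
    obtain ⟨b, hb⟩ := h y
    refine IsUnit.of_mul_eq_one b (hf ?_)
    rw [map_mul, map_one, hxa, hb, ← mul_pow, mul_comm, hy, one_pow]
  refine IsLocalRing.of_nonunits_add fun x y hx hy => ?_
  obtain ⟨a, ha⟩ := h x
  obtain ⟨b, hb⟩ := h y
  rw [mem_nonunits_iff, hu (x + y) (a + b) (by rw [map_add, ha, hb, add_pow_expChar])]
  exact (mem_maximalIdeal _).mp (add_mem ((mem_maximalIdeal _).mpr fun hu' => hx ((hu x a ha).mpr hu'))
    ((mem_maximalIdeal _).mpr fun hu' => hy ((hu y b hb).mpr hu')))

section Tensor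

variable {k E A : Type u} [Field k] [Field E] [Algebra k E] [CommRing A] [Algebra k A]

theorem exists_pow_eq_includeLeft (p : ℕ) [ExpChar (A ⊗[k] E) p] (hE : ∀ x : E, x ^ p ∈ (algebraMap k E).range)
    (x : A ⊗[k] E) : ∃ a, (Algebra.TensorProduct.includeLeftRingHom : A →+* A ⊗[k] E) a = x ^ p := by
  induction x with
  | zero => exact ⟨0, by rw [map_zero, zero_pow (expChar_pos (A ⊗[k] E) p).ne']⟩
  | add x y hx hy =>
    obtain ⟨a, ha⟩ := hx
    obtain ⟨b, hb⟩ := hy
    exact ⟨a + b, by rw [map_add, ha, hb, add_pow_expChar]⟩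
  | tmul a e =>
    obtain ⟨c, hc⟩ := hE e
    refine ⟨c • a ^ p, ?_⟩
    rw [Algebra.TensorProduct.tmul_pow, ← hc]
    show (c • a ^ p) ⊗ₜ[k] (1 : E) = _
    rw [smul_tmul, Algebra.smul_def, mul_one]

theorem includeLeftRingHom_injective [Nontrivial A] :
    Function.Injective (Algebra.TensorProduct.includeLeftRingHom : A →+* A ⊗[k] E) :=
  Algebra.TensorProduct.includeLeft_injective (S := k) (algebraMap k E).injective

theorem isLocalRing_tensor [IsLocalRing A] (p : ℕ) [ExpChar k p] (hE : ∀ x : E, x ^ p ∈ (algebraMap k E).range) :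
    IsLocalRing (A ⊗[k] E) := by
  haveI : Nontrivial (A ⊗[k] E) := (includeLeftRingHom_injective (k := k) (E := E) (A := A)).nontrivial
  haveI : ExpChar (A ⊗[k] E) p := expChar_of_injective_algebraMap (algebraMap k (A ⊗[k] E)).injective p
  exact isLocalRing_of_pow_mem includeLeftRingHom_injective p (exists_pow_eq_includeLeft p hE)

theorem isLocalRing_tensor' [IsLocalRing A] (p : ℕ) [ExpChar k p] (hE : ∀ x : E, x ^ p ∈ (algebraMap k E).range) :
    IsLocalRing (E ⊗[k] A) :=
  haveI := isLocalRing_tensor (A := A) p hE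
  (Algebra.TensorProduct.comm k A E).toRingEquiv.isLocalRing

theorem isNoetherianRing_tensor' [IsNoetherianRing A] [Module.Finite k E] : IsNoetherianRing (E ⊗[k] A) := by
  haveI : Module.Finite A (A ⊗[k] E) := Module.Finite.base_change k A E
  haveI : IsNoetherianRing (A ⊗[k] E) := IsNoetherianRing.of_finite A (A ⊗[k] E)
  exact isNoetherianRing_of_ringEquiv (A ⊗[k] E) (Algebra.TensorProduct.comm k A E).toRingEquiv

theorem isAdicFormallySmooth_tensor [IsLocalRing A] [IsLocalRing (E ⊗[k] A)]
    (h : CAlgX.IsAdicFormallySmooth k A (maximalIdeal A))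
    (hloc : ∀ a ∈ maximalIdeal A, (1 : E) ⊗ₜ[k] a ∈ maximalIdeal (E ⊗[k] A)) :
    CAlgX.IsAdicFormallySmooth E (E ⊗[k] A) (maximalIdeal (E ⊗[k] A)) := by
  intro C _ _ J hJ ψ ⟨N, hN⟩
  letI : Algebra k C := ((algebraMap E C).comp (algebraMap k E)).toAlgebra
  haveI : IsScalarTower k E C := IsScalarTower.of_algebraMap_eq fun _ => rfl
  let i : A →ₐ[k] E ⊗[k] A := Algebra.TensorProduct.includeRight
  have hi : (maximalIdeal A).map i.toRingHom ≤ maximalIdeal (E ⊗[k] A) :=
    Ideal.map_le_iff_le_comap.mpr fun a ha => hloc a ha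
  obtain ⟨v, hv⟩ := h C J hJ ((ψ.restrictScalars k).comp i) ⟨N, fun x hx =>
    hN _ (Ideal.pow_right_mono hi N (by rw [← Ideal.map_pow]; exact Ideal.mem_map_of_mem _ hx))⟩
  refine ⟨Algebra.TensorProduct.lift (Algebra.ofId E C) v fun _ _ => Commute.all _ _,
    Algebra.TensorProduct.ext (AlgHom.ext fun e => ?_) (AlgHom.ext fun a => ?_)⟩
  · show Ideal.Quotient.mk J (algebraMap E C e * v 1) = ψ (e ⊗ₜ 1)
    rw [map_one, mul_one]
    exact (ψ.commutes e).symm
  · show Ideal.Quotient.mk J (algebraMap E C 1 * v a) = ψ (1 ⊗ₜ a)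
    rw [map_one, one_mul]
    exact AlgHom.congr_fun hv a

/-- Formal smoothness gives regularity after exponent one base change. -/
theorem isRegularRing_tensor [IsLocalRing A] [IsNoetherianRing A] [Module.Finite k E] (p : ℕ) [ExpChar k p]
    (hE : ∀ x : E, x ^ p ∈ (algebraMap k E).range) (h : CAlgX.IsAdicFormallySmooth k A (maximalIdeal A)) :
    IsRegularRing (E ⊗[k] A) := by
  haveI := isLocalRing_tensor' (A := A) p hE
  haveI := isNoetherianRing_tensor' (k := k) (E := E) (A := A)
  have hloc : ∀ a ∈ maximalIdeal A, (1 : E) ⊗ₜ[k] a ∈ maximalIdeal (E ⊗[k] A) := fun a ha hu => by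
    have hu2 : IsUnit ((Algebra.TensorProduct.includeLeftRingHom : A →+* A ⊗[k] E) a) := by
      have := hu.map (Algebra.TensorProduct.comm k E A)
      rwa [Algebra.TensorProduct.comm_tmul] at this
    haveI : Nontrivial (A ⊗[k] E) := (includeLeftRingHom_injective (k := k) (E := E) (A := A)).nontrivial
    haveI : ExpChar (A ⊗[k] E) p := expChar_of_injective_algebraMap (algebraMap k (A ⊗[k] E)).injective p
    obtain ⟨y, hy⟩ := hu2.exists_left_inv
    obtain ⟨b, hb⟩ := exists_pow_eq_includeLeft p hE y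
    refine (mem_maximalIdeal _).mp ha ((isUnit_pow_iff (expChar_pos (A ⊗[k] E) p).ne').mp (IsUnit.of_mul_eq_one b ?_))
    apply includeLeftRingHom_injective (k := k) (E := E) (A := A)
    rw [map_mul, map_one, map_pow, hb, ← mul_pow, mul_comm, hy, one_pow]
  haveI : IsRegularLocalRing (E ⊗[k] A) :=
    Groth.Ega41Adic.isRegularLocalRing_of_isAdicFormallySmooth (isAdicFormallySmooth_tensor h hloc)
  exact isRegularRing_iff.mpr fun q _ => Groth.Ega4Algebra1.isRegularLocalRing_localization_atPrime _ q

end Tensor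

/-- A nonzerodivisor with regular quotient in a regular sense avoids the square of the maximal ideal. -/
theorem not_mem_sq_of_isRegularLocalRing_quotient {R : Type u} [CommRing R] [IsLocalRing R] [IsNoetherianRing R]
    {g : R} (hg : g ∈ nonZeroDivisors R) (hgm : g ∈ maximalIdeal R) [IsRegularLocalRing (R ⧸ Ideal.span {g})] :
    g ∉ maximalIdeal R ^ 2 := by
  classical
  intro hg2
  set m' := maximalIdeal (R ⧸ Ideal.span {g})
  have hfg : m'.FG := IsNoetherian.noetherian m'
  have hfin := Submodule.FG.finite_generators hfg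
  choose l hl using fun y : R ⧸ Ideal.span {g} => Ideal.Quotient.mk_surjective y
  have hmap : (maximalIdeal R).map (Ideal.Quotient.mk (Ideal.span {g})) = m' :=
    map_maximalIdeal_of_surjective _ Ideal.Quotient.mk_surjective
  have hle : maximalIdeal R ≤ Ideal.span (l '' m'.generators) := by
    refine Submodule.le_of_le_smul_of_le_jacobson_bot (IsNoetherian.noetherian _) (maximalIdeal_le_jacobson _) ?_
    intro y hy
    have h1 : Ideal.Quotient.mk (Ideal.span {g}) y ∈ (Ideal.span (l '' m'.generators)).map (Ideal.Quotient.mk _) := by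
      rw [Ideal.map_span, ← Set.image_comp, show (Ideal.Quotient.mk (Ideal.span {g})) ∘ l = id from funext hl, Set.image_id]
      show _ ∈ Submodule.span _ m'.generators
      rw [Submodule.span_generators, ← hmap]
      exact Ideal.mem_map_of_mem _ hy
    rw [← Ideal.mem_comap, Ideal.comap_map_of_surjective' _ Ideal.Quotient.mk_surjective, Ideal.mk_ker] at h1
    have hsq : Ideal.span {g} ≤ maximalIdeal R • maximalIdeal R := by
      rw [Ideal.span_le, Set.singleton_subset_iff, smul_eq_mul, ← pow_two]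
      exact hg2
    exact SetLike.le_def.mp (sup_le_sup_left hsq _) h1
  have h2 : (maximalIdeal R).spanFinrank ≤ m'.spanFinrank := by
    have heq : maximalIdeal R = Ideal.span (l '' m'.generators) := le_antisymm hle (Ideal.span_le.mpr (by
      rintro _ ⟨z, hz, rfl⟩
      have hzm : Ideal.Quotient.mk (Ideal.span {g}) (l z) ∈ m' := by
        rw [hl]; exact Submodule.span_generators m' ▸ Submodule.subset_span hz
      rw [← hmap, ← Ideal.mem_comap, Ideal.comap_map_of_surjective' _ Ideal.Quotient.mk_surjective, Ideal.mk_ker] at hzm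
      have hgle : maximalIdeal R ⊔ Ideal.span {g} ≤ maximalIdeal R :=
        sup_le le_rfl (by rw [Ideal.span_le, Set.singleton_subset_iff]; exact hgm)
      exact hgle hzm))
    rw [heq]
    refine (Submodule.spanFinrank_span_le_ncard_of_finite (hfin.image l)).trans ?_
    exact (Set.ncard_image_le hfin).trans (Submodule.FG.generators_ncard hfg).le
  have h3 := ringKrullDim_quotient_span_singleton_succ_eq_ringKrullDim_of_mem_nonZeroDivisors hg hgm
  rw [← IsRegularLocalRing.spanFinrank_maximalIdeal (R := R ⧸ Ideal.span {g})] at h3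
  have h4 := ringKrullDim_le_spanFinrank_maximalIdeal R
  rw [← h3] at h4
  norm_cast at h4
  change m'.spanFinrank + 1 ≤ _ at h4
  omega

/-- The localized form. -/
theorem notMem_sq_of_isRegularLocalRing_quotient {P : Type u} [CommRing P] [IsNoetherianRing P] [IsDomain P] {g : P}
    (hg : g ≠ 0) [IsRegularLocalRing (P ⧸ Ideal.span {g})] (M : Ideal P) [M.IsPrime]
    (hM : M = (maximalIdeal (P ⧸ Ideal.span {g})).comap (Ideal.Quotient.mk (Ideal.span {g}))) : g ∉ M ^ 2 := by
  intro hg2
  let B := Localization.AtPrime M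
  have hgM : g ∈ M := Ideal.pow_le_self two_ne_zero hg2
  have hmap : (Ideal.span {g}).map (algebraMap P B) = Ideal.span {algebraMap P B g} := by
    rw [Ideal.map_span, Set.image_singleton]
  let e : (P ⧸ Ideal.span {g}) →+* B ⧸ Ideal.span {algebraMap P B g} :=
    Ideal.quotientMap _ (algebraMap P B) (by rw [← hmap]; exact Ideal.le_comap_map)
  algebraize [e]
  haveI hiso : IsLocalization (Algebra.algebraMapSubmonoid (P ⧸ Ideal.span {g}) M.primeCompl)
      (B ⧸ Ideal.span {algebraMap P B g}) := by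
    have : IsScalarTower P (P ⧸ Ideal.span {g}) (B ⧸ Ideal.span {algebraMap P B g}) :=
      .of_algebraMap_eq fun _ => rfl
    exact IsLocalization.of_surjective M.primeCompl B (Ideal.Quotient.mk _) Ideal.Quotient.mk_surjective
      (Ideal.Quotient.mk _) Ideal.Quotient.mk_surjective (RingHom.ext fun _ => rfl)
      (by rw [Ideal.mk_ker, Ideal.mk_ker, hmap])
  have hunits : ∀ x : Algebra.algebraMapSubmonoid (P ⧸ Ideal.span {g}) M.primeCompl, IsUnit (x : P ⧸ Ideal.span {g}) := by
    rintro ⟨_, a, ha, rfl⟩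
    by_contra hu
    exact ha (hM ▸ Ideal.mem_comap.mpr ((mem_maximalIdeal _).mpr hu))
  haveI : IsRegularLocalRing (B ⧸ Ideal.span {algebraMap P B g}) := IsRegularLocalRing.of_ringEquiv
    (IsLocalization.atUnits (P ⧸ Ideal.span {g}) (Algebra.algebraMapSubmonoid (P ⧸ Ideal.span {g}) M.primeCompl)
      (fun x hx => hunits ⟨x, hx⟩)).toRingEquiv
  refine not_mem_sq_of_isRegularLocalRing_quotient (g := algebraMap P B g) ?_ ?_ ?_
  · refine mem_nonZeroDivisors_of_ne_zero fun h => hg ?_
    exact IsLocalization.injective B M.primeCompl_le_nonZeroDivisors (h.trans (map_zero _).symm)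
  · exact (IsLocalization.AtPrime.to_map_mem_maximal_iff B M g).mpr hgM
  · rw [← Localization.AtPrime.map_eq_maximalIdeal, ← Ideal.map_pow]
    exact Ideal.mem_map_of_mem _ hg2

end Groth.Ega41Exist
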